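import Groth.Agent.UfdExtend.Local
import Groth.Agent.QA.GenLocus
import Groth.Agent.TMul.AmpleComp
import Mathlib

/-!
Neighbourhoods of an isolated point of a complement whose local ring has dimension at most one.
-/

set_option autoImplicit false
set_option backward.isDefEq.respectTransparency false

universe u

open CategoryTheory CategoryTheory.Limits AlgebraicGeometry TopologicalSpace Opposite
open Groth.Agent.QC (res resO)
open Groth.Agent.UfdExtend (mem_basicOpen_iff exists_point RankOne)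
open TMul (IsGen)

noncomputable section

namespace Groth.Agent.InvExt

/-- An element in every prime above `J` below `p` has a multiple off `p` in the radical of `J`. -/
lemma exists_mul_pow_mem {A : Type u} [CommRing A] (p J : Ideal A) [p.IsPrime] (a : A)
    (h : ∀ q : Ideal A, q.IsPrime → q ≤ p → J ≤ q → a ∈ q) :
    ∃ (s : A) (n : ℕ), s ∉ p ∧ s * a ^ n ∈ J := by
  by_contra hne
  push_neg at hne
  obtain ⟨q, hq, hJq, hdisj⟩ := Ideal.exists_le_prime_disjoint J (p.primeCompl ⊔ Submonoid.powers a)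
    (Set.disjoint_left.2 fun x hxJ hx => by
      obtain ⟨s, hs, _, ⟨n, rfl⟩, rfl⟩ := Submonoid.mem_sup.1 hx
      exact hne s n hs hxJ)
  have hqp : q ≤ p := fun x hx => by
    by_contra hxp
    exact Set.disjoint_left.1 hdisj hx (Submonoid.mem_sup_left hxp)
  exact Set.disjoint_left.1 hdisj (h q hq hqp hJq) (Submonoid.mem_sup_right (Submonoid.mem_powers a))

variable {X : Scheme.{u}} (U : X.Opens)

/-- Near an isolated point of the complement with Noetherian local ring of dimension at most one the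
open is principal, and the proper generalisations are finitely many points of it. -/
theorem exists_principal_nbhd [QuasiCompact U.ι] (hdisc : DiscreteTopology ↥((U : Set X)ᶜ)) {z : X}
    (hz : z ∉ U) [IsNoetherianRing (X.presheaf.stalk z)]
    (hdim : ringKrullDim (X.presheaf.stalk z) ≤ 1) :
    ∃ (W : X.Opens) (f : Γ(X, W)), IsAffineOpen W ∧ z ∈ W ∧ (∀ y ∈ W, y ∉ U → y = z) ∧
      W ⊓ U = X.basicOpen f ∧ {y | y ∈ W ⊓ U ∧ y ⤳ z}.Finite := by
  classical
  obtain ⟨O, hO, hOz⟩ := isOpen_induced_iff.1 (isOpen_discrete ({⟨z, hz⟩} : Set ↥((U : Set X)ᶜ)))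
  have hzO : z ∈ O := ((Set.ext_iff.1 hOz ⟨z, hz⟩).2 rfl : _)
  have hOne : ∀ y ∈ O, y ∉ U → y = z := fun y hy hyU =>
    congrArg Subtype.val ((Set.ext_iff.1 hOz ⟨y, hyU⟩).1 hy)
  obtain ⟨W₀, hW₀, hzW₀, hW₀O⟩ :=
    exists_isAffineOpen_mem_and_subset (x := z) (U := (⟨O, hO⟩ : X.Opens)) hzO
  have huniq : ∀ y ∈ W₀, y ∉ U → y = z := fun y hy hyU => hOne y (hW₀O hy) hyU
  haveI := hW₀.isOpenImmersion_fromSpec
  let p := hW₀.primeIdealOf ⟨z, hzW₀⟩
  letI := X.presheaf.algebra_section_stalk (⟨z, hzW₀⟩ : W₀)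
  haveI := hW₀.isLocalization_stalk ⟨z, hzW₀⟩
  let R := X.presheaf.stalk z
  have hfinR : (Set.univ : Set (PrimeSpectrum R)).Finite := by
    refine Set.Finite.subset (((minimalPrimes.finite_of_isNoetherianRing R).image
      fun P => P).union (Set.finite_singleton (IsLocalRing.maximalIdeal R)) |>.preimage
        (Function.Injective.injOn (f := PrimeSpectrum.asIdeal) fun _ _ h => PrimeSpectrum.ext h)) ?_
    rintro P -
    by_cases hP : P.asIdeal = IsLocalRing.maximalIdeal R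
    · exact Or.inr hP
    · refine Or.inl ⟨_, ?_, rfl⟩
      have hlt : P.asIdeal < IsLocalRing.maximalIdeal R :=
        lt_of_le_of_ne (IsLocalRing.le_maximalIdeal P.2.ne_top) hP
      have h1 := Ideal.height_strict_mono_of_isPrime hlt
      rw [← IsLocalRing.maximalIdeal_height_eq_ringKrullDim] at hdim
      have h2 : (IsLocalRing.maximalIdeal R).height ≤ 1 := by exact_mod_cast hdim
      exact Ideal.height_eq_zero_iff.1 (ENat.lt_one_iff_eq_zero.1 (h1.trans_le h2))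
  have hQfin : {q : PrimeSpectrum Γ(X, W₀) | q.asIdeal ≤ p.asIdeal}.Finite := by
    refine (hfinR.image (PrimeSpectrum.comap (algebraMap Γ(X, W₀) R))).subset fun q hq => ?_
    rw [Set.image_univ, PrimeSpectrum.localization_comap_range R p.asIdeal.primeCompl]
    exact Set.disjoint_left.2 fun a ha ha' => ha (hq ha')
  obtain ⟨f, hfp, hf⟩ : ∃ f, f ∈ p.asIdeal ∧
      ∀ q : PrimeSpectrum Γ(X, W₀), q.asIdeal ≤ p.asIdeal → q ≠ p → f ∉ q.asIdeal := by
    by_contra hne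
    push_neg at hne
    have hsub : (p.asIdeal : Set Γ(X, W₀)) ⊆
        ⋃ q ∈ (↑(hQfin.toFinset.erase p) : Set (PrimeSpectrum Γ(X, W₀))), (q.asIdeal : Set Γ(X, W₀)) := by
      intro a ha
      obtain ⟨q, hq, hqp, haq⟩ := hne a ha
      exact Set.mem_biUnion (Finset.mem_coe.2 (Finset.mem_erase.2 ⟨hqp, hQfin.mem_toFinset.2 hq⟩)) haq
    obtain ⟨q, hq, hpq⟩ := (Ideal.subset_union_prime p p fun q _ _ _ => q.2).1 hsub
    obtain ⟨hqp, hq'⟩ := Finset.mem_erase.1 hq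
    exact hqp (PrimeSpectrum.ext (le_antisymm (hQfin.mem_toFinset.1 hq') hpq))
  -- `U ∩ W₀` is covered by finitely many basic opens
  have hqc : IsCompact ((W₀ ⊓ U : X.Opens) : Set X) := by
    have := (U.ι.isCompact_preimage hW₀.isCompact).image U.ι.continuous
    change IsCompact ((U.ι ''ᵁ (U.ι ⁻¹ᵁ W₀) : X.Opens) : Set X) at this
    rwa [Scheme.Hom.image_preimage_eq_opensRange_inf, U.opensRange_ι, inf_comm] at this
  choose a ha hya using fun y : (W₀ ⊓ U : X.Opens) =>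
    hW₀.exists_basicOpen_le (⟨y.1, y.2⟩ : (W₀ ⊓ U : X.Opens)) y.2.1
  obtain ⟨t, ht⟩ := hqc.elim_finite_subcover (fun y => (X.basicOpen (a y) : Set X))
    (fun y => (X.basicOpen (a y)).2) fun y hy => Set.mem_iUnion.2 ⟨⟨y, hy⟩, hya _⟩
  have hs : ∀ y ∈ t, ∃ (s : Γ(X, W₀)) (n : ℕ), s ∉ p.asIdeal ∧ s * a y ^ n ∈ Ideal.span {f} := by
    intro y _
    refine exists_mul_pow_mem _ _ _ fun q hq hqp hfq => ?_
    by_cases hq' : (⟨q, hq⟩ : PrimeSpectrum Γ(X, W₀)) = p
    · by_contra haq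
      have h1 : z ∈ X.basicOpen (a y) := (mem_basicOpen_iff hW₀ hzW₀ _).2 fun h =>
        haq (by rw [← congrArg PrimeSpectrum.asIdeal hq'] at h; exact h)
      exact hz (ha y h1).2
    · exact absurd ((Ideal.span_singleton_le_iff_mem _).1 hfq) (hf ⟨q, hq⟩ hqp hq')
  choose s n hsp hsa using hs
  let h := ∏ y : t, s y.1 y.2
  have hh : h ∉ p.asIdeal := (p.asIdeal.primeCompl).prod_mem fun y _ => hsp y.1 y.2
  refine ⟨X.basicOpen h, resO X (X.basicOpen_le h) f, hW₀.basicOpen h,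
    (mem_basicOpen_iff hW₀ hzW₀ h).2 hh, fun y hy => huniq y (X.basicOpen_le h hy), ?_, ?_⟩
  · rw [Scheme.basicOpen_res]
    ext y
    constructor
    · rintro ⟨hy, hyU⟩
      have hyW := X.basicOpen_le h hy
      refine ⟨hy, (mem_basicOpen_iff hW₀ hyW f).2 fun hfy => ?_⟩
      obtain ⟨i, hi, hyi⟩ := Set.mem_iUnion₂.1 (ht ⟨hyW, hyU⟩)
      have hprime := (hW₀.primeIdealOf ⟨y, hyW⟩).2
      rcases hprime.mem_or_mem (((Ideal.span_singleton_le_iff_mem _).2 hfy) (hsa i hi)) with hm | hm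
      · refine (mem_basicOpen_iff hW₀ hyW h).1 hy (Ideal.mem_of_dvd _ ?_ hm)
        exact Finset.dvd_prod_of_mem (fun y : t => s y.1 y.2) (Finset.mem_univ ⟨i, hi⟩)
      · exact (mem_basicOpen_iff hW₀ hyW _).1 hyi (hprime.mem_of_pow_mem _ hm)
    · rintro ⟨hy, hyf⟩
      refine ⟨hy, ?_⟩
      by_contra hyU
      obtain rfl := huniq y (X.basicOpen_le h hy) hyU
      exact (mem_basicOpen_iff hW₀ hzW₀ f).1 hyf hfp
  · refine (hQfin.image hW₀.fromSpec).subset ?_
    rintro y ⟨⟨hy, -⟩, hyz⟩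
    have hyW := X.basicOpen_le h hy
    refine ⟨hW₀.primeIdealOf ⟨y, hyW⟩, ?_, hW₀.fromSpec_primeIdealOf ⟨y, hyW⟩⟩
    refine (PrimeSpectrum.le_iff_specializes _ _).2
      (hW₀.fromSpec.isEmbedding.isInducing.specializes_iff.1 ?_)
    exact (congrArg₂ (· ⤳ ·) (hW₀.fromSpec_primeIdealOf ⟨y, hyW⟩)
      (hW₀.fromSpec_primeIdealOf ⟨z, hzW₀⟩)).mpr hyz

/-- A module invertible on `U` has a generator on the trace of a smaller neighbourhood. -/
theorem exists_gen_nbhd {F : X.Modules} (hF : RankOne U F) {z : X} (hz : z ∉ U) {W : X.Opens}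
    (hW : IsAffineOpen W) (hzW : z ∈ W) (hone : ∀ y ∈ W, y ∉ U → y = z) (f : Γ(X, W))
    (hf : W ⊓ U = X.basicOpen f) (hfin : {y | y ∈ W ⊓ U ∧ y ⤳ z}.Finite) :
    ∃ W' : X.Opens, z ∈ W' ∧ W' ≤ W ∧ ∃ g : Γ(F, W' ⊓ U), IsGen g := by
  classical
  let V := X.basicOpen f
  have hV : IsAffineOpen V := hW.basicOpen f
  haveI : IsAffine V.toScheme := hV
  have hFV : PicF.IsInvertible (F.restrict V.ι) := InvGen.isInvertible_restrict V.ι fun y => by
    obtain ⟨N, g, hyN, hg⟩ := hF.gen (V.ι y) (hf.ge y.2).2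
    exact ⟨N, g, hyN, hg⟩
  let Z : Set V.toScheme := V.ι ⁻¹' {y | y ∈ W ⊓ U ∧ y ⤳ z}
  have hZ : Z.Finite := hfin.preimage V.ι.isOpenEmbedding.injective.injOn
  obtain ⟨s, hGaff, hsZ, -⟩ :=
    TMul.exists_finite_le_of_isQuasiAffine hFV hZ (W := ⊤) fun _ _ => trivial
  let G := CohB1.genLocus (F.restrict V.ι) s
  have hgen := (TMul.isGen_restrict_iff V.ι s G).1 (TMul.isGen_genLocus s)
  have hGc : IsCompact ((V.ι ''ᵁ G : X.Opens) : Set X) := (hGaff.image_of_isOpenImmersion V.ι).isCompact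
  have hGV : V.ι ''ᵁ G ≤ V := V.ι_image_le G
  choose b hb hyb using fun y : (V.ι ''ᵁ G : X.Opens) =>
    hW.exists_basicOpen_le (⟨y.1, y.2⟩ : (V.ι ''ᵁ G : X.Opens)) (X.basicOpen_le f (hGV y.2))
  obtain ⟨t, ht⟩ := hGc.elim_finite_subcover (fun y => (X.basicOpen (b y) : Set X))
    (fun y => (X.basicOpen (b y)).2) fun y hy => Set.mem_iUnion.2 ⟨⟨y, hy⟩, hyb _⟩
  let p := hW.primeIdealOf ⟨z, hzW⟩
  obtain ⟨h, n, hh, hmem⟩ := exists_mul_pow_mem p.asIdeal (Ideal.span (b '' (t : Set _))) f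
    fun q hq hqp hJq => by
      by_contra hfq
      obtain ⟨y, hyW, hyq⟩ := exists_point hW ⟨q, hq⟩
      have hyV : y ∈ V := (mem_basicOpen_iff hW hyW f).2 (by rw [hyq]; exact hfq)
      have hyz : y ⤳ z := by
        haveI := hW.isOpenImmersion_fromSpec
        refine (congrArg₂ (· ⤳ ·) (hW.fromSpec_primeIdealOf ⟨y, hyW⟩)
          (hW.fromSpec_primeIdealOf ⟨z, hzW⟩)).mp ?_
        rw [hyq]
        exact Specializes.map ((PrimeSpectrum.le_iff_specializes _ _).1 hqp) hW.fromSpec.continuous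
      have hyG : y ∈ V.ι ''ᵁ G := ⟨⟨y, hyV⟩, hsZ ⟨hf.ge hyV, hyz⟩, rfl⟩
      obtain ⟨i, hi, hyi⟩ := Set.mem_iUnion₂.1 (ht hyG)
      have h1 := (mem_basicOpen_iff hW hyW (b i)).1 hyi
      rw [hyq] at h1
      exact h1 (hJq (Ideal.subset_span ⟨i, hi, rfl⟩))
  refine ⟨X.basicOpen h, (mem_basicOpen_iff hW hzW h).2 hh, X.basicOpen_le h, ?_⟩
  have hle : X.basicOpen h ⊓ U ≤ V.ι ''ᵁ G := by
    rintro y ⟨hy, hyU⟩
    have hyW := X.basicOpen_le h hy
    have hyf : y ∈ X.basicOpen f := hf.le ⟨hyW, hyU⟩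
    by_contra hyG
    have hJ : Ideal.span (b '' (t : Set _)) ≤ (hW.primeIdealOf ⟨y, hyW⟩).asIdeal := by
      rw [Ideal.span_le]
      rintro _ ⟨i, -, rfl⟩
      by_contra hbi
      exact hyG (hb i ((mem_basicOpen_iff hW hyW _).2 hbi))
    rcases (hW.primeIdealOf ⟨y, hyW⟩).2.mem_or_mem (hJ hmem) with hm | hm
    · exact (mem_basicOpen_iff hW hyW h).1 hy hm
    · exact (mem_basicOpen_iff hW hyW f).1 hyf ((hW.primeIdealOf ⟨y, hyW⟩).2.mem_of_pow_mem _ hm)
  exact ⟨_, hgen.res hle⟩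

end Groth.Agent.InvExt
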