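import Groth.Agent.InvExt.Module
import Groth.Agent.InvExt.Nbhd
import Groth.Agent.S0234

/-!
Invertible modules from an open and trivial pieces.
-/

set_option autoImplicit false
set_option backward.isDefEq.respectTransparency false

universe u

open CategoryTheory CategoryTheory.Limits AlgebraicGeometry TopologicalSpace Opposite
open Groth.Agent.QC (res resO res_res res_smul resO_resO)
open Groth.Agent.UfdExtend (RankOne)
open TMul (IsGen)

noncomputable section

namespace Groth.Agent.InvExt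

variable {X : Scheme.{u}} {U : X.Opens} {F : X.Modules} {κ : Type u} {W : κ → X.Opens}

/-- An invertible module with the given restriction; a section of `F` whose coefficients extend gives a
section generating where a coefficient is invertible, and with generating locus `U` when it generates on `U`
and the coefficients vanish outside. -/
theorem exists_extension_sections (hF : RankOne U F) (g : ∀ z, Γ(F, W z ⊓ U)) (hg : ∀ z, IsGen (g z))
    (hdisj : ∀ z z', z ≠ z' → W z ⊓ W z' ≤ U) (hcov : ∀ x, x ∉ U → ∃ z, x ∈ W z) :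
    ∃ L : X.Modules, PicF.IsInvertible L ∧ Nonempty (L.restrict U.ι ≅ F.restrict U.ι) ∧
      ∀ (σ : Γ(F, ⊤)) (f : ∀ z, Γ(X, W z)),
        (∀ z, res F (le_top : W z ⊓ U ≤ ⊤) σ = resO X (inf_le_left : W z ⊓ U ≤ W z) (f z) • g z) →
        ∃ s : Coh.structureModule X ⟶ L, (∀ z, X.basicOpen (f z) ≤ CohB1.genLocus L s) ∧
          (IsGen (res F (le_top : U ≤ ⊤) σ) → (∀ z, X.basicOpen (f z) ≤ U) →
            CohB1.genLocus L s = U) := by
  obtain ⟨π, hπ⟩ := exists_fst_hom (F := F) (W := W) (U := U) g hF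
  have hbij : ∀ (V : X.Opens), V ≤ U → Function.Bijective (π.app V) := fun V hV => by
    refine ⟨fun p q h => (glued g).ι_app_injective V ?_, fun s => ?_⟩
    · obtain ⟨_, -, huniq⟩ := existsUnique_pair g hg hV ((glued g).ι.app V p : PairSec F W V).1
      rw [hπ, hπ] at h
      exact (huniq _ ⟨((glued g).range_ι_app V _).1 ⟨p, rfl⟩, rfl⟩).trans
        (huniq _ ⟨((glued g).range_ι_app V _).1 ⟨q, rfl⟩, h.symm⟩).symm
    · obtain ⟨p, ⟨hp, hps⟩, -⟩ := existsUnique_pair g hg hV s
      exact ⟨(⟨p, hp⟩ : (glued g).obj V), (hπ V _).trans hps⟩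
  have hgen : ∀ {V : X.Opens} (e : Γ((glued g).toModules, V)), V ≤ U → IsGen (π.app V e) → IsGen e := by
    intro V e hV he O hO
    have hfun : (fun k : Γ(X, O) => π.app O (k • res (glued g).toModules hO e)) =
        fun k => k • res F hO (π.app V e) := funext fun k => by
      rw [Scheme.Modules.Hom.app_smul, Groth.Agent.QC.app_res]
    exact (Function.Bijective.of_comp_iff' (hbij O (hO.trans hV)) _).1 (by
      change Function.Bijective fun k : Γ(X, O) => π.app O (k • res (glued g).toModules hO e)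
      rw [hfun]; exact he O hO)
  refine ⟨(glued g).toModules, InvGen.isInvertible fun x => ?_, ?_, fun σ f hf => ?_⟩
  · by_cases hx : x ∈ U
    · obtain ⟨N, t, hxN, ht⟩ := hF.gen x hx
      obtain ⟨e, he⟩ := (hbij (N ⊓ U) inf_le_right).2 (res F inf_le_left t)
      exact ⟨N ⊓ U, e, ⟨hxN, hx⟩, hgen e inf_le_right (by rw [he]; exact ht.res _)⟩
    · obtain ⟨z, hz⟩ := hcov x hx
      obtain ⟨e, he, -⟩ := exists_gen g hF hg hdisj z
      exact ⟨W z, e, hz, he⟩
  · haveI : IsIso ((Scheme.Modules.restrictFunctor U.ι).map π) := by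
      rw [Scheme.Modules.Hom.isIso_iff_isIso_app]
      intro V
      rw [ConcreteCategory.isIso_iff_bijective]
      exact hbij _ (U.ι_image_le V)
    exact ⟨asIso ((Scheme.Modules.restrictFunctor U.ι).map π)⟩
  · let p : PairSec F W ⊤ := (σ, fun z => resO X (inf_le_right : ⊤ ⊓ W z ≤ W z) (f z))
    have hp : p ∈ (glued g).obj ⊤ := fun z O h₁ h₂ => by
      change res F h₁ σ = resO X _ (resO X _ (f z)) • res F h₂ (g z)
      have e := congrArg (res F h₂) (hf z)
      rw [res_res, res_smul, resO_resO] at e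
      rw [resO_resO]
      exact e
    let P : Γ((glued g).toModules, ⊤) := (⟨p, hp⟩ : (glued g).obj ⊤)
    have hcoef : ∀ z, ∃ e : Γ((glued g).toModules, W z), IsGen e ∧
        TMul.val (TMul.homOf P) (W z) = f z • e := fun z => by
      obtain ⟨e, he, -, he1⟩ := exists_gen g hF hg hdisj z
      obtain ⟨k, hk⟩ := (he (W z) le_rfl).2 (TMul.val (TMul.homOf P) (W z))
      simp only [Groth.Agent.QC.res_self] at hk
      refine ⟨e, he, ?_⟩
      have hk1 : k = f z := by
        have h1 := congrArg (fun q => ((glued g).ι.app (W z) q : PairSec F W (W z)).2 z) hk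
        rw [TMul.val_homOf] at h1
        change ((glued g).ι.app (W z) (k • e) : PairSec F W (W z)).2 z = _ at h1
        rw [Scheme.Modules.Hom.app_smul] at h1
        change resO X (inf_le_left : W z ⊓ W z ≤ W z) k *
            ((glued g).ι.app (W z) e : PairSec F W (W z)).2 z =
          resO X (inf_le_inf_right (W z) le_top) (resO X (inf_le_right : ⊤ ⊓ W z ≤ W z) (f z)) at h1
        rw [he1, mul_one, resO_resO] at h1
        have h2 := congrArg (resO X (le_inf le_rfl le_rfl : W z ≤ W z ⊓ W z)) h1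
        rwa [resO_resO, resO_resO, Groth.Agent.QC.resO_self, Groth.Agent.QC.resO_self] at h2
      rw [← hk1]
      exact hk.symm
    refine ⟨TMul.homOf P, fun z x hx => ?_, fun hσ hfU =>
      le_antisymm (fun x hx => ?_) (TMul.le_genLocus _ (hgen _ le_rfl ?_))⟩
    · obtain ⟨e, he, hv⟩ := hcoef z
      exact ((TMul.genLocus_inf (TMul.homOf P) he hv).ge hx).2
    · by_contra hxU
      obtain ⟨z, hxz⟩ := hcov x hxU
      obtain ⟨e, he, hv⟩ := hcoef z
      exact hxU (hfU z ((TMul.genLocus_inf (TMul.homOf P) he hv).le ⟨hxz, hx⟩))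
    · rw [TMul.val_homOf, ← Groth.Agent.QC.app_res, hπ]
      exact hσ

/-- An invertible module with the given restriction; a section of `F` generating on `U` whose
coefficients extend gives a section with generating locus `U`. -/
theorem exists_extension (hF : RankOne U F) (g : ∀ z, Γ(F, W z ⊓ U)) (hg : ∀ z, IsGen (g z))
    (hdisj : ∀ z z', z ≠ z' → W z ⊓ W z' ≤ U) (hcov : ∀ x, x ∉ U → ∃ z, x ∈ W z) :
    ∃ L : X.Modules, PicF.IsInvertible L ∧ Nonempty (L.restrict U.ι ≅ F.restrict U.ι) ∧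
      ∀ (σ : Γ(F, ⊤)) (f : ∀ z, Γ(X, W z)), IsGen (res F (le_top : U ≤ ⊤) σ) →
        (∀ z, res F (le_top : W z ⊓ U ≤ ⊤) σ = resO X (inf_le_left : W z ⊓ U ≤ W z) (f z) • g z) →
        (∀ z, X.basicOpen (f z) ≤ U) →
        ∃ s : Coh.structureModule X ⟶ L, CohB1.genLocus L s = U := by
  obtain ⟨L, hL, hiso, hs⟩ := exists_extension_sections hF g hg hdisj hcov
  refine ⟨L, hL, hiso, fun σ f hσ hf hfU => ?_⟩
  obtain ⟨s, -, h⟩ := hs σ f hf
  exact ⟨s, h hσ hfU⟩

/-- The structure module of `U` pushed forward, with its unit section. -/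
theorem exists_rankOne_unit (U : X.Opens) :
    ∃ (F : X.Modules) (σ : Γ(F, ⊤)), RankOne U F ∧ IsGen (res F (le_top : U ≤ ⊤) σ) := by
  let O : (U : Scheme.{u}).Modules := Coh.structureModule U
  have hOi : PicF.IsInvertible O := fun y => ⟨⊤, trivial,
    InvGen.nonempty_iso (⊤ : (U : Scheme.{u}).Opens).ι O
      (U := ⊤) (Scheme.Opens.opensRange_ι _).le (1 : Γ(U, ⊤)) fun V hV => by
        refine (funext fun c => ?_ : (fun c : Γ(U, V) => c • res O hV (1 : Γ(U, ⊤))) = id) ▸
          Function.bijective_id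
        change HMul.hMul (α := Γ(U, V)) (β := Γ(U, V)) (γ := Γ(U, V)) c (resO (U : Scheme.{u}) hV 1) = c
        rw [map_one, mul_one]⟩
  let F := (Scheme.Modules.pushforward U.ι).obj O
  have hF : RankOne U F := Groth.Agent.S0234.rankOne_pushforward U hOi
  let c := (Scheme.Modules.restrictFunctorAdjCounitIso U.ι).app O
  have h1 := (TMul.isIso_restrict_iff c.inv ⊤).1 inferInstance
  have h2 := (TMul.isGen_restrict_iff U.ι c.inv ⊤).1 h1
  have hle : U ≤ U.ι ''ᵁ ⊤ := fun y hy => ⟨⟨y, hy⟩, trivial, rfl⟩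
  obtain ⟨σ, hσ⟩ := (hF.bij ⊤).2 (res F (inf_le_right : ⊤ ⊓ U ≤ U) (res F hle (res F _
    (TMul.val c.inv ⊤ : Γ(F, U.ι ''ᵁ ⊤)))))
  refine ⟨F, σ, hF, ?_⟩
  have h4 := congrArg (res F (le_inf le_top le_rfl : U ≤ ⊤ ⊓ U)) hσ
  rw [res_res, res_res, Groth.Agent.QC.res_self] at h4
  rw [h4]
  exact h2.res hle

end Groth.Agent.InvExt
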