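import Groth.Agent.QC.SubSheaf
import Groth.Agent.InvGen.Basic
import Groth.Agent.TMul.Power
import Groth.Agent.UfdExtend.Local

/-!
Extending an invertible module from an open by trivial pieces: the module of pairs.
-/

set_option autoImplicit false
set_option backward.isDefEq.respectTransparency false

universe u

open CategoryTheory CategoryTheory.Limits AlgebraicGeometry TopologicalSpace Opposite
open Groth.Agent.QC (res resO res_res res_smul resO_resO section_eq_of_locally abSheaf Sub)
open TMul (IsGen)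

noncomputable section

namespace Groth.Agent.InvExt

variable {X : Scheme.{u}} (F : X.Modules) {κ : Type u} (W : κ → X.Opens)

/-- A section of `F` and functions on the traces of the pieces. -/
abbrev PairSec (V : X.Opens) : Type u := Γ(F, V) × ∀ z, Γ(X, V ⊓ W z)

instance pairModule (V : X.Opens) : Module Γ(X, V) (PairSec F W V) where
  smul r p := (r • p.1, fun z => resO X (inf_le_left : V ⊓ W z ≤ V) r * p.2 z)
  one_smul p := Prod.ext (one_smul _ _) (funext fun z => by
    change resO X (inf_le_left : V ⊓ W z ≤ V) 1 * p.2 z = p.2 z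
    rw [map_one, one_mul])
  mul_smul r s p := Prod.ext (mul_smul _ _ _) (funext fun z => by
    change resO X (inf_le_left : V ⊓ W z ≤ V) (r * s) * p.2 z = resO X _ r * (resO X _ s * p.2 z)
    rw [map_mul, mul_assoc])
  smul_zero r := Prod.ext (smul_zero _) (funext fun z => mul_zero _)
  smul_add r p q := Prod.ext (smul_add _ _ _) (funext fun z => mul_add _ _ _)
  add_smul r s p := Prod.ext (add_smul _ _ _) (funext fun z => by
    change resO X (inf_le_left : V ⊓ W z ≤ V) (r + s) * p.2 z = resO X _ r * p.2 z + resO X _ s * p.2 z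
    rw [map_add, add_mul])
  zero_smul p := Prod.ext (zero_smul _ _) (funext fun z => by
    change resO X (inf_le_left : V ⊓ W z ≤ V) 0 * p.2 z = 0
    rw [map_zero, zero_mul])

lemma smul_fst {V : X.Opens} (r : Γ(X, V)) (p : PairSec F W V) : (r • p).1 = r • p.1 := rfl

lemma smul_snd {V : X.Opens} (r : Γ(X, V)) (p : PairSec F W V) (z : κ) :
    (r • p).2 z = resO X (inf_le_left : V ⊓ W z ≤ V) r * p.2 z := rfl

/-- The abelian presheaf of pairs. -/
def pairAb : TopCat.Presheaf AddCommGrpCat.{u} X.toTopCat where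
  obj V := AddCommGrpCat.of (PairSec F W V.unop)
  map {V V'} f := AddCommGrpCat.ofHom
    { toFun := fun p => (res F (leOfHom f.unop) p.1,
        fun z => resO X (inf_le_inf_right (W z) (leOfHom f.unop)) (p.2 z))
      map_zero' := Prod.ext (map_zero _) (funext fun z => map_zero _)
      map_add' := fun p q => Prod.ext (map_add _ _ _) (funext fun z => map_add _ _ _) }
  map_id V := AddCommGrpCat.hom_ext (AddMonoidHom.ext fun (p : PairSec F W V.unop) =>
    Prod.ext (Groth.Agent.QC.res_self F le_rfl p.1)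
      (funext fun z => Groth.Agent.QC.resO_self (le_refl (V.unop ⊓ W z)) (p.2 z)))
  map_comp {V V' V''} f g := AddCommGrpCat.hom_ext (AddMonoidHom.ext fun (p : PairSec F W V.unop) =>
    Prod.ext (res_res F (leOfHom g.unop) (leOfHom f.unop) p.1).symm
      (funext fun z => (resO_resO (inf_le_inf_right (W z) (leOfHom g.unop))
        (inf_le_inf_right (W z) (leOfHom f.unop)) (p.2 z)).symm))

instance (V : (X.Opens)ᵒᵖ) : Module (X.ringCatSheaf.obj.obj V) ((pairAb F W).obj V) :=
  inferInstanceAs (Module Γ(X, V.unop) (PairSec F W V.unop))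

lemma pairAb_map_smul ⦃V V' : (X.Opens)ᵒᵖ⦄ (f : V ⟶ V') (r : X.ringCatSheaf.obj.obj V)
    (p : (pairAb F W).obj V) :
    (pairAb F W).map f (r • p) = X.ringCatSheaf.obj.map f r • (pairAb F W).map f p :=
  Prod.ext (res_smul F (leOfHom f.unop) r p.1) (funext fun z => by
    change resO X (inf_le_inf_right (W z) (leOfHom f.unop)) (resO X inf_le_left r * p.2 z) =
      resO X inf_le_left (resO X (leOfHom f.unop) r) * resO X _ (p.2 z)
    rw [map_mul, resO_resO, resO_resO])

lemma pairAb_isSheaf : TopCat.Presheaf.IsSheaf (pairAb F W) := by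
  rw [TopCat.Presheaf.isSheaf_iff_isSheafUniqueGluing]
  intro ι U sf hsf
  obtain ⟨a, ha, hau⟩ := TopCat.Sheaf.existsUnique_gluing (abSheaf F) U
    (fun i => (show PairSec F W (U i) from sf i).1) (fun i j => congrArg Prod.fst (hsf i j))
  have hb : ∀ z, ∃! b : Γ(X, iSup U ⊓ W z), ∀ i,
      resO X (inf_le_inf_right (W z) (le_iSup U i)) b = (show PairSec F W (U i) from sf i).2 z := by
    intro z
    refine TopCat.Sheaf.existsUnique_gluing' X.sheaf (fun i => U i ⊓ W z) (iSup U ⊓ W z)
      (fun i => homOfLE (inf_le_inf_right (W z) (le_iSup U i)))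
      (fun x hx => ?_) (fun i => (show PairSec F W (U i) from sf i).2 z) (fun i j => ?_)
    · obtain ⟨i, hi⟩ := Opens.mem_iSup.1 hx.1
      exact Opens.mem_iSup.2 ⟨i, hi, hx.2⟩
    · suffices key : ∀ (P : X.Opens) (h1 : P ≤ U i ⊓ W z) (h2 : P ≤ U j ⊓ W z),
          resO X h1 ((show PairSec F W (U i) from sf i).2 z) =
            resO X h2 ((show PairSec F W (U j) from sf j).2 z) from key _ inf_le_left inf_le_right
      intro P h1 h2
      have h : resO X (inf_le_inf_right (W z) (inf_le_left : U i ⊓ U j ≤ U i))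
            ((show PairSec F W (U i) from sf i).2 z) =
          resO X (inf_le_inf_right (W z) (inf_le_right : U i ⊓ U j ≤ U j))
            ((show PairSec F W (U j) from sf j).2 z) :=
        congrFun (congrArg Prod.snd (hsf i j)) z
      have := congrArg (resO X (le_inf (le_inf (h1.trans inf_le_left) (h2.trans inf_le_left))
        (h1.trans inf_le_right) : P ≤ U i ⊓ U j ⊓ W z)) h
      rw [resO_resO, resO_resO] at this
      exact this
  choose b hb hbu using hb
  refine ⟨(a, b), fun i => Prod.ext (ha i) (funext fun z => hb z i), fun q hq => ?_⟩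
  exact Prod.ext (hau _ fun i => congrArg Prod.fst (hq i))
    (funext fun z => hbu z _ fun i => congrFun (congrArg Prod.snd (hq i)) z)

/-- The module of pairs. -/
def pairs : X.Modules where
  val := PresheafOfModules.ofPresheaf (R := X.ringCatSheaf.obj) (pairAb F W) (pairAb_map_smul F W)
  isSheaf := pairAb_isSheaf F W

variable {F W}

lemma res_pairs {V' V : X.Opens} (h : V' ≤ V) (p : PairSec F W V) :
    (show PairSec F W V' from res (pairs F W) h p) =
      (res F h p.1, fun z => resO X (inf_le_inf_right (W z) h) (p.2 z)) := rfl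

variable {U : X.Opens} (g : ∀ z, Γ(F, W z ⊓ U))

/-- The pairs that agree through the chosen generators. -/
def glued : Sub (pairs F W) where
  obj V :=
    { carrier := {p : PairSec F W V | ∀ (z : κ) (O : X.Opens) (h₁ : O ≤ V) (h₂ : O ≤ W z ⊓ U),
        res F h₁ p.1 = resO X (le_inf h₁ (h₂.trans inf_le_left)) (p.2 z) • res F h₂ (g z)}
      zero_mem' := fun z O h₁ h₂ => by
        change res F h₁ (0 : Γ(F, V)) = resO X _ (0 : Γ(X, V ⊓ W z)) • _
        rw [map_zero, map_zero, zero_smul]
      add_mem' := fun {p q} hp hq z O h₁ h₂ => by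
        change res F h₁ ((show PairSec F W V from p).1 + (show PairSec F W V from q).1) =
          resO X _ ((show PairSec F W V from p).2 z + (show PairSec F W V from q).2 z) • _
        rw [map_add, map_add, add_smul]
        exact congrArg₂ (· + ·) (hp z O h₁ h₂) (hq z O h₁ h₂)
      smul_mem' := fun r p hp z O h₁ h₂ => by
        change res F h₁ (r • (show PairSec F W V from p).1) =
          resO X _ (resO X inf_le_left r * (show PairSec F W V from p).2 z) • _
        rw [res_smul, map_mul, resO_resO, mul_smul]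
        exact congrArg (_ • ·) (hp z O h₁ h₂) }
  res_mem := fun {V' V} h {p} hp z O h₁ h₂ => by
    change res F h₁ (res F h (show PairSec F W V from p).1) =
      resO X _ (resO X (inf_le_inf_right (W z) h) ((show PairSec F W V from p).2 z)) • _
    rw [res_res, resO_resO]
    exact hp z O (h₁.trans h) h₂
  local' := fun {V} p hp z O h₁ h₂ => section_eq_of_locally fun x hx => by
    obtain ⟨V', hV', hxV', hp'⟩ := hp x (h₁ hx)
    refine ⟨O ⊓ V', inf_le_left, ⟨hx, hxV'⟩, ?_⟩
    have h3 : res F (inf_le_right : O ⊓ V' ≤ V') (res F hV' (show PairSec F W V from p).1) =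
        resO X (le_inf inf_le_right ((inf_le_left.trans h₂).trans inf_le_left) : O ⊓ V' ≤ V' ⊓ W z)
            (resO X (inf_le_inf_right (W z) hV') ((show PairSec F W V from p).2 z)) •
          res F (inf_le_left.trans h₂ : O ⊓ V' ≤ W z ⊓ U) (g z) :=
      hp' z (O ⊓ V') inf_le_right (inf_le_left.trans h₂)
    rw [res_res, resO_resO] at h3
    rw [res_smul, res_res, res_res, resO_resO]
    exact h3

variable (hF : Groth.Agent.UfdExtend.RankOne U F) (hg : ∀ z, IsGen (g z))
  (hdisj : ∀ z z', z ≠ z' → W z ⊓ W z' ≤ U)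
include hF hg

omit hF in
/-- The functions of a glued pair are determined on `U`. -/
lemma snd_eq_of_fst {V : X.Opens} {p q : PairSec F W V} (hp : p ∈ (glued g).obj V)
    (hq : q ∈ (glued g).obj V) (h : p.1 = q.1) (z : κ) {O : X.Opens} (hO : O ≤ V ⊓ W z)
    (hOU : O ≤ U) : resO X hO (p.2 z) = resO X hO (q.2 z) := by
  have hO₂ : O ≤ W z ⊓ U := le_inf (hO.trans inf_le_right) hOU
  refine (hg z O hO₂).1 ?_
  have e1 := hp z O (hO.trans inf_le_left) hO₂
  have e2 := hq z O (hO.trans inf_le_left) hO₂
  rw [h] at e1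
  exact e1.symm.trans e2

omit hF in
/-- Over an open inside `U` every section of `F` extends uniquely to a glued pair. -/
lemma existsUnique_pair {V : X.Opens} (hV : V ≤ U) (s : Γ(F, V)) :
    ∃! p : PairSec F W V, p ∈ (glued g).obj V ∧ p.1 = s := by
  have hle : ∀ z, V ⊓ W z ≤ W z ⊓ U := fun z => le_inf inf_le_right (inf_le_left.trans hV)
  choose c hc using fun z => (hg z (V ⊓ W z) (hle z)).2 (res F (inf_le_left : V ⊓ W z ≤ V) s)
  simp only at hc
  refine ⟨(s, c), ⟨fun z O h₁ h₂ => ?_, rfl⟩, fun q ⟨hq, hqs⟩ => ?_⟩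
  · have e := congrArg (res F (le_inf h₁ (h₂.trans inf_le_left) : O ≤ V ⊓ W z)) (hc z)
    rw [res_smul, res_res, res_res] at e
    exact e.symm
  · refine Prod.ext hqs (funext fun z => (hg z _ (hle z)).1 ?_)
    change q.2 z • _ = c z • _
    rw [hc]
    have e := hq z (V ⊓ W z) inf_le_left (hle z)
    rw [Groth.Agent.QC.resO_self] at e
    rw [← e, hqs]

include hdisj in
/-- The generator of the glued module on a piece. -/
theorem exists_gen (z₀ : κ) : ∃ e : Γ((glued g).toModules, W z₀), IsGen e ∧
    (∀ O (h : O ≤ W z₀ ⊓ U),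
      res F h (g z₀) = res F (h.trans inf_le_left) ((glued g).ι.app _ e : PairSec F W (W z₀)).1) ∧
    ((glued g).ι.app _ e : PairSec F W (W z₀)).2 z₀ = 1 := by
  classical
  obtain ⟨G, hG⟩ := (hF.bij (W z₀)).2 (g z₀)
  have hG' : ∀ (O : X.Opens) (h : O ≤ W z₀ ⊓ U), res F h (g z₀) = res F (h.trans inf_le_left) G :=
    fun O h => by rw [← hG, res_res]
  have hle : ∀ z, z ≠ z₀ → W z₀ ⊓ W z ≤ U := fun z hz => hdisj z₀ z (Ne.symm hz)
  have hc : ∀ z, ∃ c : Γ(X, W z₀ ⊓ W z), (z = z₀ → c = 1) ∧
      (∀ (hz : z ≠ z₀), c • res F (le_inf inf_le_right (hle z hz) : W z₀ ⊓ W z ≤ W z ⊓ U) (g z) =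
        res F (inf_le_left : W z₀ ⊓ W z ≤ W z₀) G) := fun z => by
    by_cases hz : z = z₀
    · exact ⟨1, fun _ => rfl, fun h => absurd hz h⟩
    · obtain ⟨c, hc⟩ := (hg z _ (le_inf inf_le_right (hle z hz))).2 (res F inf_le_left G)
      exact ⟨c, fun h => absurd h hz, fun _ => hc⟩
  choose c hc₁ hc₂ using hc
  have hmem : (G, c) ∈ (glued g).obj (W z₀) := fun z O h₁ h₂ => by
    change res F h₁ G = resO X _ (c z) • res F h₂ (g z)
    by_cases hz : z = z₀
    · subst hz
      rw [hc₁ z rfl, map_one, one_smul, hG' O h₂]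
    · have e := congrArg (res F (le_inf h₁ (h₂.trans inf_le_left) : O ≤ W z₀ ⊓ W z)) (hc₂ z hz)
      rw [res_smul, res_res, res_res] at e
      exact e.symm
  refine ⟨⟨(G, c), hmem⟩, fun V hV => ?_, hG', hc₁ z₀ rfl⟩
  have hV₀ : V ≤ V ⊓ W z₀ := le_inf le_rfl hV
  have hval : ∀ k : Γ(X, V), ((glued g).ι.app V
      (k • res (glued g).toModules hV ⟨(G, c), hmem⟩) : PairSec F W V) =
      (k • res F hV G, fun z => resO X inf_le_left k * resO X (inf_le_inf_right (W z) hV) (c z)) :=
    fun k => by
    rw [Scheme.Modules.Hom.app_smul]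
    rfl
  refine ⟨fun k k' h => ?_, fun p => ?_⟩
  · have h' := congrArg (fun q => ((glued g).ι.app V q : PairSec F W V).2 z₀) h
    simp only [hval, hc₁ z₀ rfl, map_one, mul_one] at h'
    have := congrArg (resO X hV₀) h'
    rwa [resO_resO, resO_resO, Groth.Agent.QC.resO_self, Groth.Agent.QC.resO_self] at this
  · let q : PairSec F W V := (glued g).ι.app V p
    have hq : q ∈ (glued g).obj V := ((glued g).range_ι_app V _).1 ⟨p, rfl⟩
    let k : Γ(X, V) := resO X hV₀ (q.2 z₀)
    refine ⟨k, (glued g).ι_app_injective V ((hval k).trans ?_)⟩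
    have hfst : k • res F hV G = q.1 := by
      refine hF.eq_of_inf ?_
      have e := hq z₀ (V ⊓ U) inf_le_left (inf_le_inf_right U hV)
      rw [e, res_smul, res_res, resO_resO, hG' _ (inf_le_inf_right U hV)]
    refine Prod.ext hfst (funext fun z => ?_)
    change resO X inf_le_left k * resO X (inf_le_inf_right (W z) hV) (c z) = q.2 z
    by_cases hz : z = z₀
    · subst hz
      rw [hc₁ z rfl, map_one, mul_one, resO_resO, Groth.Agent.QC.resO_self]
    · have hVU : V ⊓ W z ≤ W z ⊓ U :=
        le_inf inf_le_right ((inf_le_inf_right (W z) hV).trans (hle z hz))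
      refine (hg z _ hVU).1 ?_
      have e := hq z (V ⊓ W z) inf_le_left hVU
      rw [Groth.Agent.QC.resO_self, ← hfst, res_smul, res_res] at e
      change _ • _ = _ • _
      rw [← e, mul_smul]
      have e2 := congrArg (res F (inf_le_inf_right (W z) hV)) (hc₂ z hz)
      rw [res_smul, res_res, res_res] at e2
      rw [e2]

omit hg in
/-- The projection to `F` as a bijection over opens inside `U`. -/
lemma exists_fst_hom : ∃ π : (glued g).toModules ⟶ F, ∀ (V : X.Opens) (p : Γ((glued g).toModules, V)),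
    π.app V p = ((glued g).ι.app V p : PairSec F W V).1 :=
  ⟨(glued g).ι ≫ ⟨PresheafOfModules.homMk
    { app := fun V => AddCommGrpCat.ofHom (AddMonoidHom.fst _ _ : PairSec F W V.unop →+ Γ(F, V.unop))
      naturality := fun V V' h => rfl }
    fun V r p => rfl⟩, fun V p => rfl⟩

end Groth.Agent.InvExt
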