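import Groth.Agent.InvExt.Module
import Groth.Agent.UfdExtend.Glue
import Mathlib

/-!
An invertible module mapping to a module with local generators on an open and given sections near the
complement.
-/

set_option autoImplicit false
set_option backward.isDefEq.respectTransparency false

universe u

open CategoryTheory CategoryTheory.Limits AlgebraicGeometry TopologicalSpace Opposite
open Groth.Agent.QC (res resO res_res res_smul resO_resO app_res section_eq_of_locally)
open TMul (IsGen)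

noncomputable section

namespace Groth.Agent.InvExt

variable {X : Scheme.{u}}

/-- A morphism from an invertible module hitting generators is an isomorphism. -/
theorem isIso_of_hits_gen {M N : X.Modules} (hM : PicF.IsInvertible M) (ψ : M ⟶ N)
    (h : ∀ x : X, ∃ (W : X.Opens) (s : Γ(M, W)), x ∈ W ∧ IsGen (ψ.app W s)) : IsIso ψ := by
  have key : ∀ x : X, ∃ W : X.Opens, x ∈ W ∧ ∀ O ≤ W, Function.Bijective (ψ.app O) := fun x => by
    obtain ⟨W, s, hxW, he⟩ := h x
    obtain ⟨A, a, hxA, ha⟩ := TMul.exists_isGen hM x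
    let B := W ⊓ A
    obtain ⟨c, hc⟩ := (he B inf_le_left).2 (ψ.app B (res M inf_le_right a))
    obtain ⟨k, hk⟩ := (ha B inf_le_right).2 (res M (inf_le_left : B ≤ W) s)
    change c • _ = _ at hc
    change k • _ = _ at hk
    have hkc : k * c = 1 := (he B inf_le_left).1 (by
      change (k * c) • _ = (1 : Γ(X, B)) • _
      rw [mul_smul, hc, one_smul, ← Scheme.Modules.Hom.app_smul, hk, app_res])
    have hgen : IsGen (ψ.app B (res M inf_le_right a)) := by
      rw [← hc]
      exact Groth.Agent.UfdExtend.isGen_unit_smul (he.res _) (IsUnit.of_mul_eq_one_right k hkc)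
    refine ⟨B, ⟨hxW, hxA⟩, fun O hO => ?_⟩
    have hfun : (fun r : Γ(X, O) => ψ.app O (r • res M (hO.trans inf_le_right) a)) =
        fun r => r • res N hO (ψ.app B (res M inf_le_right a)) := funext fun r => by
      rw [Scheme.Modules.Hom.app_smul, app_res, res_res]
    refine (Function.Bijective.of_comp_iff _ (ha O (hO.trans inf_le_right))).1 ?_
    change Function.Bijective fun r : Γ(X, O) => ψ.app O (r • res M (hO.trans inf_le_right) a)
    rw [hfun]
    exact hgen O hO
  haveI : Mono ψ := (Groth.Agent.QC.mono_iff_app_injective ψ).2 fun O s t hst =>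
    section_eq_of_locally fun x hx => by
      obtain ⟨W, hxW, hW⟩ := key x
      refine ⟨O ⊓ W, inf_le_left, ⟨hx, hxW⟩, (hW _ inf_le_right).1 ?_⟩
      rw [← app_res, ← app_res, hst]
  haveI : Epi ψ := InvGen.epi_of_locally ψ fun O t x hx => by
    obtain ⟨W, hxW, hW⟩ := key x
    exact ⟨O ⊓ W, inf_le_left, ⟨hx, hxW⟩, (hW _ inf_le_right).2 _⟩
  exact isIso_of_mono_of_epi ψ

variable {V : X.Opens} {F : X.Modules} {κ : Type u} {W : κ → X.Opens} (g : ∀ z, Γ(F, W z))

/-- Pairs agreeing through the given sections on the whole pieces. -/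
abbrev gluedFull : Groth.Agent.QC.Sub (pairs F W) :=
  glued (U := (⊤ : X.Opens)) fun z => res F (inf_le_left : W z ⊓ ⊤ ≤ W z) (g z)

variable (hg : ∀ z, IsGen (res F (inf_le_left : W z ⊓ V ≤ W z) (g z)))
  (hdisj : ∀ z z', z ≠ z' → W z ⊓ W z' ≤ V)
include hg

lemma bij_of_le (z : κ) {O : X.Opens} (h₁ : O ≤ W z) (h₂ : O ≤ V) :
    Function.Bijective fun c : Γ(X, O) => c • res F h₁ (g z) := by
  have h := hg z O (le_inf h₁ h₂)
  simp only [res_res] at h
  exact h

include hdisj

/-- An invertible module mapping to `F`, onto the given sections and the generators on `V`. -/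
theorem exists_hom_push (hV : ∀ x ∈ V, ∃ (N : X.Opens) (t : Γ(F, N)), x ∈ N ∧ N ≤ V ∧ IsGen t)
    (hcov : ∀ x, x ∉ V → ∃ z, x ∈ W z) :
    ∃ (N : X.Modules) (π : N ⟶ F), PicF.IsInvertible N ∧
      (∀ z, ∃ e : Γ(N, W z), π.app (W z) e = g z) ∧
      ∀ x ∈ V, ∃ (O : X.Opens) (e : Γ(N, O)), x ∈ O ∧ O ≤ V ∧ IsGen (π.app O e) := by
  classical
  let S := gluedFull g
  let π : S.toModules ⟶ F := S.ι ≫ ⟨PresheafOfModules.homMk
    { app := fun O => AddCommGrpCat.ofHom (AddMonoidHom.fst _ _ : PairSec F W O.unop →+ Γ(F, O.unop))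
      naturality := fun O O' h => rfl }
    fun O r p => rfl⟩
  have hπ : ∀ (O : X.Opens) (p : Γ(S.toModules, O)), π.app O p = (S.ι.app O p : PairSec F W O).1 :=
    fun O p => rfl
  have hmem : ∀ {O : X.Opens} (p : PairSec F W O), p ∈ S.obj O ↔
      ∀ (z : κ) (P : X.Opens) (h₁ : P ≤ O) (h₂ : P ≤ W z),
        res F h₁ p.1 = resO X (le_inf h₁ h₂) (p.2 z) • res F h₂ (g z) := fun {O} p => by
    refine ⟨fun h z P h₁ h₂ => ?_, fun h z P h₁ h₂ => ?_⟩
    · have e := h z P h₁ (le_inf h₂ le_top)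
      rw [res_res] at e
      exact e
    · rw [res_res]; exact h z P h₁ (h₂.trans inf_le_left)
  have hpair : ∀ {O : X.Opens}, O ≤ V → ∀ s : Γ(F, O), ∃! p : PairSec F W O, p ∈ S.obj O ∧ p.1 = s := by
    intro O hO s
    have hle : ∀ z, O ⊓ W z ≤ V := fun z => inf_le_left.trans hO
    choose c hc using fun z => (bij_of_le g hg z (inf_le_right : O ⊓ W z ≤ W z) (hle z)).2
      (res F (inf_le_left : O ⊓ W z ≤ O) s)
    simp only at hc
    refine ⟨(s, c), ⟨(hmem _).2 fun z P h₁ h₂ => ?_, rfl⟩, fun q ⟨hq, hqs⟩ => ?_⟩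
    · have e := congrArg (res F (le_inf h₁ h₂ : P ≤ O ⊓ W z)) (hc z)
      rw [res_smul, res_res, res_res] at e
      exact e.symm
    · refine Prod.ext hqs (funext fun z => (bij_of_le g hg z inf_le_right (hle z)).1 ?_)
      change q.2 z • _ = c z • _
      rw [hc]
      have e := (hmem q).1 hq z (O ⊓ W z) inf_le_left inf_le_right
      rw [Groth.Agent.QC.resO_self, hqs] at e
      exact e.symm
  have hbij : ∀ O : X.Opens, O ≤ V → Function.Bijective (π.app O) := fun O hO => by
    refine ⟨fun p q h => S.ι_app_injective O ?_, fun s => ?_⟩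
    · obtain ⟨_, -, huniq⟩ := hpair hO (S.ι.app O p : PairSec F W O).1
      rw [hπ, hπ] at h
      exact (huniq _ ⟨(S.range_ι_app O _).1 ⟨p, rfl⟩, rfl⟩).trans
        (huniq _ ⟨(S.range_ι_app O _).1 ⟨q, rfl⟩, h.symm⟩).symm
    · obtain ⟨p, ⟨hp, hps⟩, -⟩ := hpair hO s
      exact ⟨(⟨p, hp⟩ : S.obj O), (hπ O _).trans hps⟩
  have hVgen : ∀ x ∈ V, ∃ (O : X.Opens) (e : Γ(S.toModules, O)), x ∈ O ∧ O ≤ V ∧
      IsGen e ∧ IsGen (π.app O e) := fun x hx => by
    obtain ⟨N, t, hxN, hNV, ht⟩ := hV x hx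
    obtain ⟨e, he⟩ := (hbij N hNV).2 t
    refine ⟨N, e, hxN, hNV, fun P hP => ?_, by rw [he]; exact ht⟩
    have hfun : (fun k : Γ(X, P) => π.app P (k • res S.toModules hP e)) = fun k => k • res F hP t :=
      funext fun k => by rw [Scheme.Modules.Hom.app_smul, ← app_res, he]
    refine (Function.Bijective.of_comp_iff' (hbij P (hP.trans hNV)) _).1 ?_
    change Function.Bijective fun k : Γ(X, P) => π.app P (k • res S.toModules hP e)
    rw [hfun]
    exact ht P hP
  have hpiece : ∀ z₀, ∃ e : Γ(S.toModules, W z₀), IsGen e ∧ π.app (W z₀) e = g z₀ := fun z₀ => by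
    have hle : ∀ z, z ≠ z₀ → W z₀ ⊓ W z ≤ V := fun z hz => hdisj z₀ z (Ne.symm hz)
    have hc : ∀ z, ∃ c : Γ(X, W z₀ ⊓ W z), (z = z₀ → c = 1) ∧
        c • res F (inf_le_right : W z₀ ⊓ W z ≤ W z) (g z) =
          res F (inf_le_left : W z₀ ⊓ W z ≤ W z₀) (g z₀) := fun z => by
      by_cases hz : z = z₀
      · subst hz; exact ⟨1, fun _ => rfl, one_smul _ _⟩
      · obtain ⟨c, hc⟩ := (bij_of_le g hg z inf_le_right (hle z hz)).2 (res F inf_le_left (g z₀))
        exact ⟨c, fun h => absurd h hz, hc⟩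
    choose c hc₁ hc₂ using hc
    have hcm : (g z₀, c) ∈ S.obj (W z₀) := (hmem _).2 fun z P h₁ h₂ => by
      have e := congrArg (res F (le_inf h₁ h₂ : P ≤ W z₀ ⊓ W z)) (hc₂ z)
      rw [res_smul, res_res, res_res] at e
      exact e.symm
    refine ⟨⟨(g z₀, c), hcm⟩, fun O hO => ?_, rfl⟩
    have hO₀ : O ≤ O ⊓ W z₀ := le_inf le_rfl hO
    have hval : ∀ k : Γ(X, O), (S.ι.app O (k • res S.toModules hO ⟨(g z₀, c), hcm⟩) : PairSec F W O) =
        (k • res F hO (g z₀), fun z => resO X inf_le_left k * resO X (inf_le_inf_right (W z) hO) (c z)) :=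
      fun k => by
      rw [Scheme.Modules.Hom.app_smul]
      rfl
    refine ⟨fun k k' h => ?_, fun p => ?_⟩
    · have h' := congrArg (fun q => (S.ι.app O q : PairSec F W O).2 z₀) h
      simp only [hval, hc₁ z₀ rfl, map_one, mul_one] at h'
      have := congrArg (resO X hO₀) h'
      rwa [resO_resO, resO_resO, Groth.Agent.QC.resO_self, Groth.Agent.QC.resO_self] at this
    · let q : PairSec F W O := S.ι.app O p
      have hq := (hmem q).1 ((S.range_ι_app O _).1 ⟨p, rfl⟩)
      let k : Γ(X, O) := resO X hO₀ (q.2 z₀)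
      refine ⟨k, S.ι_app_injective O ((hval k).trans ?_)⟩
      have hfst : k • res F hO (g z₀) = q.1 := by
        have e := hq z₀ O le_rfl hO
        rw [Groth.Agent.QC.res_self] at e
        exact e.symm
      refine Prod.ext hfst (funext fun z => ?_)
      change resO X inf_le_left k * resO X (inf_le_inf_right (W z) hO) (c z) = q.2 z
      by_cases hz : z = z₀
      · subst hz
        rw [hc₁ z rfl, map_one, mul_one, resO_resO, Groth.Agent.QC.resO_self]
      · have hOV : O ⊓ W z ≤ V := (inf_le_inf_right (W z) hO).trans (hle z hz)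
        refine (bij_of_le g hg z inf_le_right hOV).1 ?_
        have e := hq z (O ⊓ W z) inf_le_left inf_le_right
        rw [Groth.Agent.QC.resO_self, ← hfst, res_smul, res_res] at e
        change _ • _ = _ • _
        rw [← e, mul_smul]
        have e2 := congrArg (res F (inf_le_inf_right (W z) hO)) (hc₂ z)
        rw [res_smul, res_res, res_res] at e2
        rw [e2]
  refine ⟨S.toModules, π, InvGen.isInvertible fun x => ?_, fun z => ?_, fun x hx => ?_⟩
  · by_cases hx : x ∈ V
    · obtain ⟨O, e, hxO, -, he, -⟩ := hVgen x hx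
      exact ⟨O, e, hxO, he⟩
    · obtain ⟨z, hz⟩ := hcov x hx
      obtain ⟨e, he, -⟩ := hpiece z
      exact ⟨W z, e, hz, he⟩
  · obtain ⟨e, -, he⟩ := hpiece z
    exact ⟨e, he⟩
  · obtain ⟨O, e, hxO, hO, -, he⟩ := hVgen x hx
    exact ⟨O, e, hxO, hO, he⟩

end Groth.Agent.InvExt
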