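import Groth.Agent.InvExt.Push

/-!
A module of rank one on disjoint opens mapping to a module with given sections there.
-/

set_option autoImplicit false
set_option backward.isDefEq.respectTransparency false

universe u

open CategoryTheory CategoryTheory.Limits AlgebraicGeometry TopologicalSpace Opposite
open Groth.Agent.QC (res resO res_res res_smul resO_resO app_res)
open TMul (IsGen)

noncomputable section

namespace Groth.Agent.InvExt

variable {X : Scheme.{u}} {F : X.Modules} {κ : Type u} {W : κ → X.Opens} (g : ∀ a, Γ(F, W a))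

/-- A module with a generator above each given section; a section being a unit multiple of the given
ones lifts to a section generating there. -/
theorem exists_lift (hdisj : ∀ a b, a ≠ b → W a ⊓ W b = ⊥) :
    ∃ (F' : X.Modules) (π : F' ⟶ F), (∀ a, ∃ t : Γ(F', W a), IsGen t ∧ π.app (W a) t = g a) ∧
      ∀ (O : X.Opens) (s : Γ(F, O)) (c : ∀ a, Γ(X, O ⊓ W a)), (∀ a, IsUnit (c a)) →
        (∀ a, res F (inf_le_left : O ⊓ W a ≤ O) s = c a • res F inf_le_right (g a)) →
        ∃ p : Γ(F', O), π.app O p = s ∧ ∀ a, IsGen (res F' (inf_le_left : O ⊓ W a ≤ O) p) := by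
  classical
  let S := gluedFull g
  let π : S.toModules ⟶ F := S.ι ≫ ⟨PresheafOfModules.homMk
    { app := fun O => AddCommGrpCat.ofHom (AddMonoidHom.fst _ _ : PairSec F W O.unop →+ Γ(F, O.unop))
      naturality := fun O O' h => rfl }
    fun O r p => rfl⟩
  have hmem : ∀ {O : X.Opens} (p : PairSec F W O), p ∈ S.obj O ↔
      ∀ (z : κ) (P : X.Opens) (h₁ : P ≤ O) (h₂ : P ≤ W z),
        res F h₁ p.1 = resO X (le_inf h₁ h₂) (p.2 z) • res F h₂ (g z) := fun {O} p => by
    refine ⟨fun h z P h₁ h₂ => ?_, fun h z P h₁ h₂ => ?_⟩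
    · have e := h z P h₁ (le_inf h₂ le_top)
      rw [res_res] at e
      exact e
    · rw [res_res]; exact h z P h₁ (h₂.trans inf_le_left)
  have hempty : ∀ {O : X.Opens}, O = ⊥ → ∀ a b : Γ(X, O), a = b := fun {O} hO a b =>
    TopCat.Presheaf.IsSheaf.section_ext X.sheaf.property fun x hx => by
      subst hO; exact absurd hx (by simp)
  have hempty' : ∀ {O : X.Opens}, O = ⊥ → ∀ a b : Γ(F, O), a = b := fun {O} hO a b =>
    Groth.Agent.QC.section_eq_of_locally fun x hx => by
      subst hO; exact absurd hx (by simp)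
  have hbot : ∀ {a b : κ}, a ≠ b → ∀ {O : X.Opens}, O ≤ W a → O ⊓ W b = ⊥ := fun {a b} hab {O} hO =>
    eq_bot_iff.2 ((inf_le_inf_right _ hO).trans (hdisj a b hab).le)
  have ht : ∀ a, ∃ t : Γ(S.toModules, W a),
      (S.ι.app (W a) t : PairSec F W (W a)) = (g a, fun _ => 1) := fun a => by
    refine ⟨⟨(g a, fun _ => 1), (hmem _).2 fun b P h₁ h₂ => ?_⟩, rfl⟩
    change res F h₁ (g a) = resO X _ (1 : Γ(X, W a ⊓ W b)) • res F h₂ (g b)
    by_cases hab : a = b
    · subst hab; rw [map_one, one_smul]
    · exact hempty' (eq_bot_iff.2 ((le_inf h₁ h₂).trans (hdisj a b hab).le)) _ _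
  choose t ht using ht
  have hgen : ∀ a, IsGen (t a) := fun a O hO => by
    have hval : ∀ k : Γ(X, O), (S.ι.app O (k • res S.toModules hO (t a)) : PairSec F W O) =
        (k • res F hO (g a), fun z => resO X inf_le_left k * 1) := fun k => by
      rw [Scheme.Modules.Hom.app_smul, ← app_res, ht]
      exact Prod.ext rfl (funext fun z => congrArg (_ * ·) (map_one (resO X _)))
    have hO₀ : O ≤ O ⊓ W a := le_inf le_rfl hO
    refine ⟨fun k k' h => ?_, fun p => ?_⟩
    · have h' := congrArg (fun q => (S.ι.app O q : PairSec F W O).2 a) h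
      simp only [hval, mul_one] at h'
      have := congrArg (resO X hO₀) h'
      rwa [resO_resO, resO_resO, Groth.Agent.QC.resO_self, Groth.Agent.QC.resO_self] at this
    · let q : PairSec F W O := S.ι.app O p
      have hq := (hmem q).1 ((S.range_ι_app O _).1 ⟨p, rfl⟩)
      refine ⟨resO X hO₀ (q.2 a), S.ι_app_injective O ((hval _).trans ?_)⟩
      refine Prod.ext ?_ (funext fun z => ?_)
      · have e := hq a O le_rfl hO
        rw [Groth.Agent.QC.res_self] at e
        exact e.symm
      · change resO X inf_le_left (resO X hO₀ (q.2 a)) * 1 = q.2 z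
        by_cases hz : z = a
        · subst hz
          rw [mul_one, resO_resO, Groth.Agent.QC.resO_self]
        · exact hempty (hbot (Ne.symm hz) hO) _ _
  refine ⟨S.toModules, π, fun a => ⟨t a, hgen a, congrArg Prod.fst (ht a)⟩, fun O s c hc hs => ?_⟩
  have hsm : ((s, c) : PairSec F W O) ∈ S.obj O := (hmem _).2 fun z P h₁ h₂ => by
    have e := congrArg (res F (le_inf h₁ h₂)) (hs z)
    rw [res_smul, res_res, res_res] at e
    exact e
  refine ⟨⟨(s, c), hsm⟩, rfl, fun a => ?_⟩
  have e : res S.toModules (inf_le_left : O ⊓ W a ≤ O) ⟨(s, c), hsm⟩ =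
      c a • res S.toModules (inf_le_right : O ⊓ W a ≤ W a) (t a) := by
    refine S.ι_app_injective _ ?_
    rw [Scheme.Modules.Hom.app_smul, ← app_res, ← app_res, ht]
    refine Prod.ext (hs a) (funext fun z => ?_)
    by_cases hz : z = a
    · subst hz
      change resO X (inf_le_inf_right _ inf_le_left) (c z) = resO X inf_le_left (c z) * resO X _ 1
      rw [map_one, mul_one]
    · exact hempty (hbot (Ne.symm hz) inf_le_right) _ _
  rw [e]
  exact Groth.Agent.UfdExtend.isGen_unit_smul ((hgen a).res _) (hc a)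

end Groth.Agent.InvExt
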