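import Groth.Agent.InvExt.Lift
import Groth.Agent.AmpleDimOne.Top
import Groth.Agent.TMul.AmpleComp
import Groth.Agent.S7670

/-!
Surjectivity on Picard groups along finite maps that are closed immersions over a dense open, in
dimension at most one.
-/

set_option autoImplicit false
set_option backward.isDefEq.respectTransparency false

universe u

open CategoryTheory CategoryTheory.Limits AlgebraicGeometry

namespace Groth.Agent.InvExt

open TopologicalSpace
open Groth.Agent.QC (res resO res_res res_smul resO_resO app_res section_eq_of_locally)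
open TMul (IsGen)
open Groth.Agent.S7670 (exists_gen_preimage exists_isUnit_smul)

/-- In dimension at most one, the complement of an open with all generic points is finite discrete. -/
lemma finite_discrete_compl {Y : Scheme.{u}} [NoetherianSpace Y] (hdim : topologicalKrullDim Y ≤ 1)
    (U : Y.Opens) (hgen : ∀ C ∈ irreducibleComponents Y, ∀ ξ, IsGenericPoint ξ C → ξ ∈ U) :
    ((U : Set Y)ᶜ).Finite ∧ DiscreteTopology ↥((U : Set Y)ᶜ) := by
  have hclosed : ∀ y ∉ U, IsClosed ({y} : Set Y) := fun y hy => by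
    refine closure_subset_iff_isClosed.1 fun w hw => ?_
    obtain ⟨ξ, hξ⟩ := QuasiSober.sober
      (irreducibleComponent_mem_irreducibleComponents y).1 isClosed_irreducibleComponent
    rcases Groth.Agent.AmpleDimOne.eq_or_eq_of_specializes hdim (hξ.specializes mem_irreducibleComponent)
      (specializes_iff_mem_closure.2 hw) with e | e
    · exact absurd (e ▸ hgen _ (irreducibleComponent_mem_irreducibleComponents y) ξ hξ) hy
    · exact e.symm
  have hfinE : ((U : Set Y)ᶜ).Finite := by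
    obtain ⟨T, hTfin, hTC, hTI, hTeq⟩ :=
      NoetherianSpace.exists_finite_set_isClosed_irreducible U.isOpen.isClosed_compl
    refine (Set.Finite.biUnion hTfin fun Z hZ => ?_).subset
      (fun y hy => by rw [hTeq, Set.sUnion_eq_biUnion] at hy; exact hy)
    obtain ⟨ξ, hξ⟩ := QuasiSober.sober (hTI Z hZ) (hTC Z hZ)
    have hξU : ξ ∉ U := fun h => by
      have : ξ ∈ ((U : Set Y)ᶜ) := hTeq.ge ⟨Z, hZ, hξ.mem⟩
      exact this h
    rw [← hξ.def, (hclosed ξ hξU).closure_eq]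
    exact Set.finite_singleton ξ
  haveI := hfinE.to_subtype
  haveI : T1Space ↥((U : Set Y)ᶜ) := ⟨fun y => by
    rw [isClosed_induced_iff]
    refine ⟨{y.1}, hclosed y.1 y.2, ?_⟩
    ext w
    simp [Subtype.ext_iff]⟩
  exact ⟨hfinE, inferInstance⟩

/-- Surjectivity on functions of an affine open inside an open over which the map is a closed immersion. -/
lemma app_surjective_of_le {X Y : Scheme.{u}} (f : X ⟶ Y) {V : Y.Opens} [IsClosedImmersion (f ∣_ V)]
    {C : Y.Opens} (hC : IsAffineOpen C) (hCV : C ≤ V) : Function.Surjective (f.app C) := by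
  obtain ⟨C', rfl⟩ : ∃ C', V.ι ''ᵁ C' = C := ⟨V.ι ⁻¹ᵁ C, by
    rw [Scheme.Hom.image_preimage_eq_opensRange_inf, V.opensRange_ι, inf_eq_right.mpr hCV]⟩
  have h := (f ∣_ V).app_surjective C' ((Scheme.Hom.isAffineOpen_iff_of_isOpenImmersion V.ι).1 hC)
  rw [morphismRestrict_app] at h
  intro k
  obtain ⟨a, ha⟩ := h (X.presheaf.map (eqToHom (image_morphismRestrict_preimage f V C')).op k)
  exact ⟨a, (ConcreteCategory.bijective_of_isIso
    (X.presheaf.map (eqToHom (image_morphismRestrict_preimage f V C')).op)).1 ha⟩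

/-- An invertible module pulls back from an invertible module. -/
theorem exists_pullback_iso {X Y : Scheme.{u}} (f : X ⟶ Y)
    [IsFinite f] [NoetherianSpace Y] (hdim : topologicalKrullDim Y ≤ 1)
    (V : Y.Opens) (hV : Dense (V : Set Y)) (hfV : IsClosedImmersion (f ∣_ V))
    (L : X.Modules) (hL : PicF.IsInvertible L) :
    ∃ N : Y.Modules, PicF.IsInvertible N ∧ Nonempty ((Scheme.Modules.pullback f).obj N ≅ L) := by
  classical
  let F : Y.Modules := (Scheme.Modules.pushforward f).obj L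
  have hemp : ∀ {O : Y.Opens}, (∀ y ∈ O, y ∉ Set.range f) → ∀ a b : Γ(F, O), a = b := fun {O} hO a b =>
    section_eq_of_locally (M := L) (U := f ⁻¹ᵁ O) fun x hx => absurd ⟨x, rfl⟩ (hO (f x) hx)
  let κ := {C // C ∈ irreducibleComponents (Y : Type u)}
  haveI : Finite κ := (NoetherianSpace.finite_irreducibleComponents (α := Y)).to_subtype
  have hη : ∀ C : κ, ∃ η, IsGenericPoint η C.1 := fun C =>
    QuasiSober.sober C.2.1 (isClosed_of_mem_irreducibleComponents _ C.2)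
  choose η hη using hη
  let D : κ → Y.Opens := fun C => ⟨⋂ C' : κ, ⋂ (_ : C' ≠ C), C'.1ᶜ, isOpen_iInter_of_finite fun C' =>
    isOpen_iInter_of_finite fun _ => (isClosed_of_mem_irreducibleComponents _ C'.2).isOpen_compl⟩
  have hDmem : ∀ {C : κ} {y : Y}, y ∈ D C ↔ ∀ C' : κ, C' ≠ C → y ∉ C'.1 := fun {C y} => by
    change y ∈ (⋂ C' : κ, ⋂ (_ : C' ≠ C), C'.1ᶜ) ↔ _
    simp
  have hηD : ∀ C, η C ∈ D C := fun C => hDmem.2 fun C' hne hmem => hne (Subtype.ext (le_antisymm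
    (C.2.2 C'.2.1 ?_) ?_))
  rotate_left
  · rw [← (hη C).def]
    exact closure_minimal (Set.singleton_subset_iff.2 hmem) (isClosed_of_mem_irreducibleComponents _ C'.2)
  · rw [← (hη C).def]
    exact closure_minimal (Set.singleton_subset_iff.2 hmem) (isClosed_of_mem_irreducibleComponents _ C'.2)
  have hDC : ∀ {C : κ} {y : Y}, y ∈ D C → y ∈ C.1 := fun {C y} hy => by
    by_contra h
    refine hDmem.1 hy ⟨irreducibleComponent y, irreducibleComponent_mem_irreducibleComponents y⟩ ?_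
      mem_irreducibleComponent
    intro e
    exact h (e ▸ mem_irreducibleComponent)
  have hηmem : ∀ (C : κ) (O : Y.Opens) (y : Y), y ∈ O → y ∈ D C → η C ∈ O := fun C O y hy hyD =>
    ((hη C).specializes (hDC hyD)).mem_open O.2 hy
  have hηV : ∀ C, η C ∈ V := fun C => by
    obtain ⟨y, hyD, hyV⟩ := hV.inter_open_nonempty _ (D C).2 ⟨η C, hηD C⟩
    exact hηmem C V y hyV hyD
  choose W₀ e₀ hW₀ he₀ using fun y => exists_gen_preimage f hL y
  let B : κ → Y.Opens := fun C => D C ⊓ V ⊓ W₀ (η C)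
  let b : ∀ C, Γ(F, B C) := fun C => res L (f.preimage_mono inf_le_right) (e₀ (η C))
  have hb : ∀ C, IsGen (N := L) (U := f ⁻¹ᵁ B C) (b C) := fun C => (he₀ _).res _
  have hBD : ∀ C, B C ≤ D C := fun C => inf_le_left.trans inf_le_left
  have hηB : ∀ C, η C ∈ B C := fun C => ⟨⟨hηD C, hηV C⟩, hW₀ _⟩
  have hdisj : ∀ C C', C ≠ C' → ∀ y ∈ D C, y ∉ D C' := fun C C' hne y hy hy' =>
    hDmem.1 hy' C hne (hDC hy)
  let V₁ : Y.Opens := ⨆ C, B C
  obtain ⟨hfin₁, -⟩ := finite_discrete_compl hdim V₁ fun C hC ξ hξ => by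
    obtain rfl : ξ = η ⟨C, hC⟩ := hξ.eq (hη ⟨C, hC⟩)
    exact Opens.mem_iSup.2 ⟨_, hηB _⟩
  haveI := hfin₁.to_subtype
  let T := ↥((V₁ : Set Y)ᶜ)
  -- shrinking about each generic point to have units as transition functions
  have hA : ∀ (C : κ) (z : T), ∃ (A : Y.Opens) (hAB : A ≤ B C) (c : Γ(Y, W₀ z.1 ⊓ A)),
      η C ∈ A ∧ IsUnit c ∧ res F inf_le_left (e₀ z.1 : Γ(F, W₀ z.1)) =
        c • res F (inf_le_right.trans hAB : W₀ z.1 ⊓ A ≤ B C) (b C) := fun C z => by
    by_cases hz : η C ∈ W₀ z.1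
    · obtain ⟨O, hO, hηO, hOle⟩ := exists_isAffineOpen_mem_and_subset (x := η C)
        (U := W₀ z.1 ⊓ B C) ⟨hz, hηB C⟩
      have h₁ : O ≤ W₀ z.1 := fun y hy => (hOle hy).1
      have h₂ : O ≤ B C := fun y hy => (hOle hy).2
      obtain ⟨k, hk, hke⟩ := exists_isUnit_smul
        ((hb C).res (f.preimage_mono h₂)) ((he₀ z.1).res (f.preimage_mono h₁))
      obtain ⟨a, rfl⟩ := app_surjective_of_le f (V := V) hO (h₂.trans (inf_le_left.trans inf_le_right)) k
      by_cases hr : η C ∈ Set.range f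
      · obtain ⟨x, hx⟩ := hr
        have hxa : η C ∈ Y.basicOpen a := by
          rw [← hx]
          change x ∈ f ⁻¹ᵁ Y.basicOpen a
          rw [Scheme.preimage_basicOpen, Scheme.basicOpen_of_isUnit _ hk]
          change f x ∈ O
          rw [hx]; exact hηO
        have hle := Y.basicOpen_le a
        refine ⟨Y.basicOpen a, hle.trans h₂, resO Y (inf_le_right.trans hle) a, hxa, ?_, ?_⟩
        · have hu : IsUnit (resO Y hle a) := Y.toRingedSpace.isUnit_res_basicOpen a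
          have := hu.map (resO Y (inf_le_right : W₀ z.1 ⊓ Y.basicOpen a ≤ Y.basicOpen a))
          rwa [resO_resO] at this
        · have e := congrArg (res F (V := W₀ z.1 ⊓ Y.basicOpen a) (inf_le_right.trans hle))
            (show a • res F h₂ (b C) = res F h₁ (e₀ z.1 : Γ(F, W₀ z.1)) from hke)
          rw [res_smul, res_res, res_res] at e
          exact e.symm
      · refine ⟨O ⊓ ⟨(Set.range f)ᶜ, f.isClosedMap.isClosed_range.isOpen_compl⟩,
          inf_le_left.trans h₂, 1, ⟨hηO, hr⟩, isUnit_one, hemp (O := W₀ z.1 ⊓ (O ⊓ ⟨(Set.range f)ᶜ, f.isClosedMap.isClosed_range.isOpen_compl⟩))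
            (fun y hy => hy.2.2) _ _⟩
    · refine ⟨B C, le_rfl, 1, hηB C, isUnit_one, section_eq_of_locally fun y hy => ?_⟩
      exact absurd (hηmem C (W₀ z.1) y hy.1 (hBD C hy.2)) hz
  choose A₀ hA₀ c hηA₀ hc hce using hA
  let A : κ → Y.Opens := fun C => B C ⊓ ⟨⋂ z : T, (A₀ C z : Set Y),
    isOpen_iInter_of_finite fun z => (A₀ C z).2⟩
  have hAle : ∀ C z, A C ≤ A₀ C z := fun C z y hy => Set.mem_iInter.1 hy.2 z
  let V₂ : Y.Opens := ⨆ C, A C
  obtain ⟨-, hdisc⟩ := finite_discrete_compl hdim V₂ fun C hC ξ hξ => by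
    obtain rfl : ξ = η ⟨C, hC⟩ := hξ.eq (hη ⟨C, hC⟩)
    exact Opens.mem_iSup.2 ⟨_, hηB _, Set.mem_iInter.2 fun z => hηA₀ _ z⟩
  let g₀ : ∀ C, Γ(F, A C) := fun C => res F (inf_le_left : A C ≤ B C) (b C)
  have hAdisj : ∀ C C', C ≠ C' → ∀ y ∈ A C, y ∉ A C' := fun C C' hne y hy hy' =>
    hdisj C C' hne y (hBD C hy.1) (hBD C' hy'.1)
  obtain ⟨F', π', ht, hlift⟩ := Groth.Agent.InvExt.exists_lift g₀ fun C C' hne =>
    eq_bot_iff.2 fun y hy => absurd hy.2 (hAdisj C C' hne y hy.1)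
  choose t ht htπ using ht
  have hN : ∀ z : {y : Y // y ∉ V₂}, ∃ (W : Y.Opens) (p : Γ(F', W)), z.1 ∈ W ∧
      (∀ y ∈ W, y ∉ V₂ → y = z.1) ∧ IsGen (N := L) (U := f ⁻¹ᵁ W) (π'.app W p) ∧
      ∀ C, IsGen (res F' (inf_le_left : W ⊓ A C ≤ W) p) := fun z => by
    obtain ⟨O, hO, hOz⟩ := isOpen_induced_iff.1 (isOpen_discrete ({⟨z.1, z.2⟩} : Set ↥((V₂ : Set Y)ᶜ)))
    have hzO : z.1 ∈ O := (Set.ext_iff.1 hOz ⟨z.1, z.2⟩).2 rfl
    have hiso : ∀ y ∈ O, y ∉ V₂ → y = z.1 := fun y hy hyV =>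
      congrArg Subtype.val ((Set.ext_iff.1 hOz ⟨y, hyV⟩).1 hy)
    have key : ∀ (W : Y.Opens) (s : Γ(F, W)) (c' : ∀ C, Γ(Y, W ⊓ A C)), z.1 ∈ W →
        IsGen (N := L) (U := f ⁻¹ᵁ W) s → (∀ C, IsUnit (c' C)) →
        (∀ C, res F inf_le_left s = c' C • res F inf_le_right (g₀ C)) →
        ∃ (W : Y.Opens) (p : Γ(F', W)), z.1 ∈ W ∧ (∀ y ∈ W, y ∉ V₂ → y = z.1) ∧
          IsGen (N := L) (U := f ⁻¹ᵁ W) (π'.app W p) ∧
          ∀ C, IsGen (res F' (inf_le_left : W ⊓ A C ≤ W) p) := fun W s c' hzW hs hc' hsc => by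
      obtain ⟨p, hp, hpg⟩ := hlift W s c' hc' hsc
      refine ⟨W ⊓ ⟨O, hO⟩, res F' inf_le_left p, ⟨hzW, hzO⟩, fun y hy => hiso y hy.2, ?_, fun C => ?_⟩
      · rw [← app_res, hp]; exact hs.res _
      · rw [res_res]
        have := (hpg C).res (inf_le_inf_right (A C) (inf_le_left : W ⊓ ⟨O, hO⟩ ≤ W))
        rwa [res_res] at this
    by_cases hz : z.1 ∈ V₁
    · obtain ⟨C₀, hC₀⟩ := Opens.mem_iSup.1 hz
      refine key (B C₀) (b C₀) (fun _ => 1) hC₀ (hb C₀) (fun _ => isUnit_one) fun C => ?_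
      rw [one_smul, res_res]
      by_cases h : C₀ = C
      · subst h; rfl
      · exact section_eq_of_locally fun y hy => absurd (hBD C hy.2.1) (hdisj C₀ C h y (hBD C₀ hy.1))
    · refine key (W₀ z.1) (e₀ z.1) (fun C => resO Y (inf_le_inf_left _ (hAle C ⟨z.1, hz⟩)) (c C ⟨z.1, hz⟩))
        (hW₀ _) (he₀ _) (fun C => (hc C ⟨z.1, hz⟩).map _) fun C => ?_
      have e := congrArg (res F (V := W₀ z.1 ⊓ A C) (inf_le_inf_left _ (hAle C ⟨z.1, hz⟩)))
        (hce C ⟨z.1, hz⟩)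
      rw [res_smul, res_res, res_res] at e
      rw [res_res]
      exact e
  choose W p hzW hone hpL hp using hN
  obtain ⟨N, π, hNi, hπW, hπV⟩ := Groth.Agent.InvExt.exists_hom_push (V := V₂) (F := F') p
    (fun z => Groth.Agent.UfdExtend.isGen_of_locally fun y hy => by
      obtain ⟨C, hC⟩ := Opens.mem_iSup.1 hy.2
      refine ⟨W z ⊓ V₂ ⊓ A C, inf_le_left, ⟨hy, hC⟩, ?_⟩
      rw [res_res]
      have := (hp z C).res (V := W z ⊓ V₂ ⊓ A C) (inf_le_inf_right _ inf_le_left)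
      rwa [res_res] at this)
    (fun z z' hne y hy => by
      by_contra hyU
      exact hne (Subtype.ext ((hone z y hy.1 hyU).symm.trans (hone z' y hy.2 hyU))))
    (fun y hy => by
      obtain ⟨C, hC⟩ := Opens.mem_iSup.1 hy
      exact ⟨A C, t C, hC, le_iSup A C, ht C⟩)
    fun y hy => ⟨⟨y, hy⟩, hzW _⟩
  let adj := Scheme.Modules.pullbackPushforwardAdjunction f
  let ψ : (Scheme.Modules.pullback f).obj N ⟶ L := (adj.homEquiv N L).symm (π ≫ π')
  have hψ : ∀ (O : Y.Opens) (s : Γ(N, O)),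
      ψ.app (f ⁻¹ᵁ O) ((adj.unit.app N).app O s) = π'.app O (π.app O s) := fun O s => by
    have h : adj.homEquiv N L ψ = π ≫ π' := Equiv.apply_symm_apply _ _
    rw [Adjunction.homEquiv_unit] at h
    exact congrArg (fun q : N ⟶ F => q.app O s) h
  haveI : IsIso ψ := Groth.Agent.InvExt.isIso_of_hits_gen (PicLoc.isInvertible_pullback f hNi) ψ fun x => by
    by_cases hx : f x ∈ V₂
    · obtain ⟨O, e, hxO, -, he⟩ := hπV (f x) hx
      obtain ⟨C, hC⟩ := Opens.mem_iSup.1 hx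
      refine ⟨f ⁻¹ᵁ (O ⊓ A C), (adj.unit.app N).app _ (res N inf_le_left e), ⟨hxO, hC⟩, ?_⟩
      rw [hψ, ← app_res]
      have ht' : IsGen (N := L) (U := f ⁻¹ᵁ (O ⊓ A C))
          (π'.app (O ⊓ A C) (res F' inf_le_right (t C))) := by
        rw [← app_res, htπ]
        exact ((hb C).res (f.preimage_mono inf_le_left)).res _
      obtain ⟨k, hk, hke⟩ := exists_isUnit_smul ((ht C).res (inf_le_right : O ⊓ A C ≤ A C))
        (he.res (inf_le_left : O ⊓ A C ≤ O))
      rw [← hke, Scheme.Modules.Hom.app_smul]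
      exact Groth.Agent.UfdExtend.isGen_unit_smul ht' (hk.map (f.app (O ⊓ A C)).hom)
    · obtain ⟨e, he⟩ := hπW ⟨f x, hx⟩
      refine ⟨f ⁻¹ᵁ W ⟨f x, hx⟩, (adj.unit.app N).app _ e, hzW ⟨f x, hx⟩, ?_⟩
      rw [hψ, he]
      exact hpL _
  exact ⟨N, hNi, ⟨asIso ψ⟩⟩

end Groth.Agent.InvExt
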